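import Cfsg.Agent.Lib.PGroups.UniqueInvolution
import Cfsg.Agent.Lib.PGroups.MaxAbelian
import Cfsg.Agent.Lib.OddOrder.Rank
import Cfsg.Prelude.Def_Balance
import Mathlib.RingTheory.Int.Basic
import Mathlib.Tactic.Group
import Mathlib.Tactic.Ring
import Mathlib.Tactic.LinearCombination

/-!
# Normal elementary abelian subgroups of order p^2; the rank 2 commuting graph of a p-group

Owner: helper34. Namespace `Cfsg.Agent.Lib.PConnected`.
-/

set_option autoImplicit false

open Cfsg Subgroup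
open Cfsg.Agent.Lib
open scoped commutatorElement

namespace Cfsg.Agent.Lib.PConnected

variable {G : Type*} [Group G] {p : ℕ}

theorem two_pow_dvd_sub_or_add {n : ℕ} {r : ℤ} (hn : 1 ≤ n) (hr : ((2 : ℤ) ^ n) ∣ r * r - 1) :
    (2 : ℤ) ^ (n - 1) ∣ r - 1 ∨ (2 : ℤ) ^ (n - 1) ∣ r + 1 := by
  have h2 : (2 : ℤ) ∣ r * r - 1 := (dvd_pow_self 2 (by omega)).trans hr
  obtain ⟨m, rfl⟩ : ∃ m, r = 2 * m + 1 := by
    rcases Int.even_or_odd r with ⟨m, rfl⟩ | ⟨m, rfl⟩
    · exfalso
      obtain ⟨k, hk⟩ := h2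
      have h1 : (2 : ℤ) ∣ 1 := ⟨2 * m * m - k, by linear_combination -hk⟩
      exact absurd h1 (by decide)
    · exact ⟨m, rfl⟩
  rcases Nat.lt_or_ge n 2 with hn2 | hn2
  · obtain rfl : n = 1 := by omega
    simp
  obtain ⟨j, rfl⟩ : ∃ j, n = j + 2 := ⟨n - 2, by omega⟩
  obtain ⟨k, hk⟩ := hr
  have hmm : (2 : ℤ) ^ j ∣ m * (m + 1) :=
    ⟨k, mul_left_cancel₀ (show (4 : ℤ) ≠ 0 by norm_num) (by rw [pow_add] at hk; linear_combination hk)⟩
  rw [show j + 2 - 1 = j + 1 from rfl, pow_succ']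
  rcases Int.even_or_odd m with hm | hm
  · left
    have hnd : ¬ (2 : ℤ) ∣ m + 1 := by
      rw [← even_iff_two_dvd]; simp [Int.even_add_one, hm]
    rw [show 2 * m + 1 - 1 = 2 * m by ring]
    exact mul_dvd_mul_left 2 (Int.prime_two.pow_dvd_of_dvd_mul_right j hnd hmm)
  · right
    have hnd : ¬ (2 : ℤ) ∣ m := by
      rw [← even_iff_two_dvd]; exact Int.not_even_iff_odd.2 hm
    rw [show 2 * m + 1 + 1 = 2 * (m + 1) by ring]
    exact mul_dvd_mul_left 2 (Int.prime_two.pow_dvd_of_dvd_mul_left j hnd hmm)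

/-- A 2-group of rank greater than 2 has a normal four-subgroup. -/
theorem exists_normal_sq_two [Finite G] (hG : IsPGroup 2 G) (hrk : ¬ PRankLE 2 2 G) :
    ∃ U : Subgroup G, U.Normal ∧ IsElementaryAbelian 2 U ∧ Nat.card ↥U = 2 ^ 2 := by
  haveI : Fact (Nat.Prime 2) := ⟨Nat.prime_two⟩
  obtain ⟨A, -, hAn, hA, hmax⟩ := PGroups.exists_maximal_normal_abelian (⊥ : Subgroup G)
    (Subgroup.le_centralizer_iff_isMulCommutative.mp (by simp))
  by_cases hAc : IsCyclic A
  swap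
  · have := PGroups.omegaOne_normal (p := 2) (K := A)
    obtain ⟨M, hMn, hM, hMc⟩ := PGroups.exists_normal_le_card hG (Cfsg.omegaOne 2 A)
      (PGroups.sq_le_card_omegaOne hA (hG.to_subgroup A) hAc)
    exact ⟨M, hMn, PGroups.elemAb_mono (PGroups.elemAb_omegaOne hA) hM, hMc⟩
  obtain ⟨a, ha⟩ := A.isCyclic_iff_exists_zpowers_eq_top.mp hAc
  subst ha
  set A := Subgroup.zpowers a with hAdef
  have hC := PGroups.centralizer_eq_self_of_maximal hG hA hmax
  obtain ⟨n, hn⟩ := IsPGroup.iff_orderOf.1 hG a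
  have hact : ∀ x : G, ∃ r : ℤ, x * a * x⁻¹ = a ^ r := fun x => by
    obtain ⟨r, hr⟩ := Subgroup.mem_zpowers_iff.1 (hAn.conj_mem a (Subgroup.mem_zpowers a) x)
    exact ⟨r, hr.symm⟩
  have heq : ∀ i j : ℤ, a ^ i = a ^ j ↔ (2 : ℤ) ^ n ∣ i - j := fun i j => by
    rw [← orderOf_dvd_sub_iff_zpow_eq_zpow, hn]
    push_cast
    rfl
  have hactA : ∀ (x : G) (r : ℤ), x * a * x⁻¹ = a ^ r → (x ∈ A ↔ (2 : ℤ) ^ n ∣ r - 1) := by
    intro x r hr
    rw [← heq r 1, zpow_one, ← hr, mul_inv_eq_iff_eq_mul]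
    constructor
    · intro hx
      obtain ⟨i, rfl⟩ := Subgroup.mem_zpowers_iff.1 hx
      exact ((Commute.refl a).zpow_left i).eq
    · intro h
      rw [← hC]
      refine Subgroup.mem_centralizer_iff.2 fun y hy => ?_
      obtain ⟨i, rfl⟩ := Subgroup.mem_zpowers_iff.1 hy
      exact ((show Commute a x from h.symm).zpow_left i).eq
  have hcomp : ∀ (x y : G) (r s : ℤ), x * a * x⁻¹ = a ^ r → y * a * y⁻¹ = a ^ s →
      (x * y) * a * (x * y)⁻¹ = a ^ (r * s) := by
    intro x y r s hr hs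
    calc (x * y) * a * (x * y)⁻¹ = x * (y * a * y⁻¹) * x⁻¹ := by group
      _ = x * a ^ s * x⁻¹ := by rw [hs]
      _ = (x * a * x⁻¹) ^ s := by rw [conj_zpow]
      _ = _ := by rw [hr, ← zpow_mul]
  have hcommA : ∀ g x : G, ⁅g, x⁆ ∈ A := by
    intro g x
    obtain ⟨r, hr⟩ := hact g
    obtain ⟨s, hs⟩ := hact x
    obtain ⟨r', hr'⟩ := hact g⁻¹
    obtain ⟨s', hs'⟩ := hact x⁻¹
    have h1 : a ^ (r * r') = a := by
      rw [← hcomp g g⁻¹ r r' hr hr', mul_inv_cancel, one_mul, inv_one, mul_one]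
    have h2 : a ^ (s * s') = a := by
      rw [← hcomp x x⁻¹ s s' hs hs', mul_inv_cancel, one_mul, inv_one, mul_one]
    have hc := hcomp _ x⁻¹ _ s' (hcomp _ g⁻¹ _ r' (hcomp g x r s hr hs) hr') hs'
    rw [show r * s * r' * s' = (r * r') * (s * s') by ring, zpow_mul, h1, h2] at hc
    rw [← hC, commutatorElement_def]
    refine Subgroup.mem_centralizer_iff.2 fun y hy => ?_
    obtain ⟨i, rfl⟩ := Subgroup.mem_zpowers_iff.1 hy
    exact ((show Commute a (g * x * g⁻¹ * x⁻¹) from (mul_inv_eq_iff_eq_mul.1 hc).symm).zpow_left i).eq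
  obtain ⟨E, hEG, hE, hEc⟩ := OddOrder.Rank.exists_elemAb_of_not_prankLE (H := (⊤ : Subgroup G)) (p := 2) (k := 2) (by
    intro h
    refine hrk fun B hB1 hB2 => ?_
    have := OddOrder.Rank.prankLE_subgroup_iff.1 h B le_top ⟨hB1, hB2⟩
    exact this)
  have hE2 : ∀ x ∈ E, x * x = 1 := fun x hx => by rw [← sq]; exact hE.2 x hx
  have hEr : ∀ x ∈ E, ∀ r : ℤ, x * a * x⁻¹ = a ^ r → (2 : ℤ) ^ n ∣ r * r - 1 := by
    intro x hx r hr
    have := hcomp x x r r hr hr
    rw [hE2 x hx, one_mul, inv_one, mul_one] at this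
    rw [← heq, zpow_one, ← this]
  have hinfle : Nat.card ↥(E ⊓ A) ≤ 2 := by
    haveI : IsCyclic ↥(E ⊓ A) := isCyclic_of_injective (Subgroup.inclusion (inf_le_right : E ⊓ A ≤ A))
      (Subgroup.inclusion_injective _)
    exact Nat.le_of_dvd two_pos (PGroups.elemAb_card_dvd_of_isCyclic (PGroups.elemAb_mono hE inf_le_left))
  obtain ⟨e1, he1, he1A⟩ : ∃ e ∈ E, e ∉ A := by
    by_contra! h
    rw [inf_eq_left.2 h] at hinfle
    omega
  obtain ⟨e2, he2, he2A, he12⟩ : ∃ e ∈ E, e ∉ A ∧ e1 * e ∉ A := by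
    by_contra! h
    have hle : E ≤ (E ⊓ A) ⊔ Subgroup.zpowers e1 := fun x hx => by
      by_cases hxA : x ∈ A
      · exact Subgroup.mem_sup_left ⟨hx, hxA⟩
      · have hx' : x = e1 * (e1 * x) := by rw [← mul_assoc, hE2 e1 he1, one_mul]
        rw [hx']
        exact mul_mem (Subgroup.mem_sup_right (Subgroup.mem_zpowers e1))
          (Subgroup.mem_sup_left ⟨mul_mem he1 hx, h x hx hxA⟩)
    have hcs := (Subgroup.card_le_of_le hle).trans (OddOrder.Rank.card_sup_le_of_commute fun x hx y hy =>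
      PGroups.elemAb_comm hE hx.1 (Subgroup.zpowers_le.2 he1 hy))
    have h2 : Nat.card ↥(Subgroup.zpowers e1) ≤ 2 := by
      rw [Nat.card_zpowers]
      exact Nat.le_of_dvd two_pos (orderOf_dvd_of_pow_eq_one (hE.2 e1 he1))
    have := Nat.mul_le_mul hinfle h2
    omega
  obtain ⟨r1, hr1⟩ := hact e1
  obtain ⟨r2, hr2⟩ := hact e2
  have hr12 := hcomp _ _ _ _ hr1 hr2
  have hn3 : 3 ≤ n := by
    by_contra hlt
    -- only two possible actions, so `e1 e2 ∈ A`
    have hcases : ∀ r : ℤ, (2 : ℤ) ^ n ∣ r * r - 1 → (2 : ℤ) ^ n ∣ r - 1 ∨ (2 : ℤ) ^ n ∣ r + 1 := by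
      intro r hr
      interval_cases n
      · simp
      · exact Or.inl (by
          obtain ⟨k, hk⟩ := hr
          rcases Int.even_or_odd r with ⟨m, rfl⟩ | ⟨m, rfl⟩
          · exact absurd (show (2 : ℤ) ∣ 1 from ⟨2 * m * m - k, by linear_combination -hk⟩) (by decide)
          · exact ⟨m, by ring⟩)
      · rcases two_pow_dvd_sub_or_add (n := 2) (by norm_num) hr with h | h <;>
        · obtain ⟨k, hk⟩ := h
          norm_num at hk
          rcases Int.even_or_odd k with ⟨m, rfl⟩ | ⟨m, rfl⟩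
          · first
              | exact Or.inl ⟨m, by linear_combination hk⟩
              | exact Or.inr ⟨m, by linear_combination hk⟩
          · first
              | exact Or.inr ⟨m + 1, by linear_combination hk⟩
              | exact Or.inl ⟨m, by linear_combination hk⟩
    rcases hcases r1 (hEr e1 he1 r1 hr1) with h | h
    · exact he1A ((hactA _ _ hr1).2 h)
    rcases hcases r2 (hEr e2 he2 r2 hr2) with h' | h'
    · exact he2A ((hactA _ _ hr2).2 h')
    refine he12 ((hactA _ _ hr12).2 ?_)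
    rw [show r1 * r2 - 1 = r1 * (r2 + 1) - (r1 + 1) by ring]
    exact dvd_sub (h'.mul_left r1) h
  obtain ⟨e, he, heA, r, hr, hr1'⟩ : ∃ e ∈ E, e ∉ A ∧ ∃ r : ℤ, e * a * e⁻¹ = a ^ r ∧ (2 : ℤ) ^ (n - 1) ∣ r - 1 := by
    rcases two_pow_dvd_sub_or_add (by omega) (hEr e1 he1 r1 hr1) with h | h
    · exact ⟨e1, he1, he1A, r1, hr1, h⟩
    rcases two_pow_dvd_sub_or_add (by omega) (hEr e2 he2 r2 hr2) with h' | h'
    · exact ⟨e2, he2, he2A, r2, hr2, h'⟩
    refine ⟨e1 * e2, mul_mem he1 he2, he12, r1 * r2, hr12, ?_⟩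
    rw [show r1 * r2 - 1 = r1 * (r2 + 1) - (r1 + 1) by ring]
    exact dvd_sub (h'.mul_left r1) h
  set z := a ^ ((2 : ℤ) ^ (n - 1)) with hz
  have hpow : (2 : ℤ) ^ n = 2 ^ (n - 1) * 2 := by rw [← pow_succ]; congr 1; omega
  have hz2 : z * z = 1 := by
    rw [hz, ← zpow_add, ← zpow_zero a, heq, hpow]
    exact ⟨1, by ring⟩
  have hz1 : z ≠ 1 := by
    intro h
    rw [hz, ← zpow_zero a, heq, sub_zero, hpow] at h
    obtain ⟨k, hk⟩ := h
    have : (1 : ℤ) = 2 * k := mul_left_cancel₀ (pow_ne_zero _ (two_ne_zero)) (by linear_combination hk)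
    omega
  have hzA : z ∈ A := Subgroup.mem_zpowers_iff.2 ⟨_, rfl⟩
  have hze : Commute e z := by
    show e * z = z * e
    rw [← mul_inv_eq_iff_eq_mul, hz, ← conj_zpow, hr, ← zpow_mul, heq]
    obtain ⟨k, hk⟩ := hr1'
    refine ⟨k * 2 ^ (n - 2), ?_⟩
    have h2 : (2 : ℤ) ^ (n - 1) = 2 * 2 ^ (n - 2) := by rw [← pow_succ']; congr 1; omega
    rw [hpow]
    linear_combination (2 : ℤ) ^ (n - 1) * hk + (2 : ℤ) ^ (n - 1) * k * h2
  have hU : IsElementaryAbelian 2 (Subgroup.zpowers z ⊔ Subgroup.zpowers e) := by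
    refine PGroups.elemAb_sup (PGroups.elemAb_zpowers (by rw [sq, hz2]))
      (PGroups.elemAb_zpowers (hE.2 e he)) ?_
    rintro x hx y hy
    obtain ⟨i, rfl⟩ := Subgroup.mem_zpowers_iff.1 hx
    obtain ⟨j, rfl⟩ := Subgroup.mem_zpowers_iff.1 hy
    exact (hze.symm.zpow_zpow i j).eq
  set U := Subgroup.zpowers z ⊔ Subgroup.zpowers e with hUdef
  have hB : (A ⊔ Subgroup.zpowers e).Normal := PGroups.normal_sup_zpowers fun g => hcommA g e
  have hinv : ∀ x ∈ A ⊔ Subgroup.zpowers e, x * x = 1 → x ∈ U := by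
    intro x hx hx2
    rw [← SetLike.mem_coe, Subgroup.normal_mul] at hx
    obtain ⟨y, hy, w, hw, rfl⟩ := hx
    obtain ⟨i, rfl⟩ := Subgroup.mem_zpowers_iff.1 (hy : y ∈ Subgroup.zpowers a)
    obtain ⟨j, rfl⟩ := Subgroup.mem_zpowers_iff.1 hw
    have he1 : e ^ (2 : ℤ) = 1 := by rw [zpow_two]; exact hE2 e he
    change a ^ i * e ^ j * (a ^ i * e ^ j) = 1 at hx2
    show a ^ i * e ^ j ∈ U
    have hzi : (2 : ℤ) ^ (n - 1) ∣ i → a ^ i ∈ U := by
      rintro ⟨k, rfl⟩
      rw [zpow_mul, ← hz]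
      exact Subgroup.mem_sup_left (Subgroup.mem_zpowers_iff.2 ⟨k, rfl⟩)
    refine mul_mem (hzi ?_) (Subgroup.mem_sup_right (Subgroup.mem_zpowers_iff.2 ⟨j, rfl⟩))
    rcases Int.even_or_odd j with ⟨m, rfl⟩ | ⟨m, rfl⟩
    · rw [← two_mul, zpow_mul, he1, one_zpow, mul_one, ← zpow_add, ← zpow_zero a, heq, sub_zero, hpow,
        ← two_mul, mul_comm _ (2 : ℤ)] at hx2
      exact (mul_dvd_mul_iff_left (two_ne_zero)).1 hx2
    · rw [zpow_add, zpow_mul, he1, one_zpow, one_mul, zpow_one] at hx2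
      have h1 : a ^ i * e * (a ^ i * e) = a ^ i * (e * a ^ i * e⁻¹) * (e * e) := by group
      rw [h1, hE2 e he, mul_one, ← conj_zpow, hr, ← zpow_mul, ← zpow_add, ← zpow_zero a, heq, sub_zero,
        hpow] at hx2
      obtain ⟨k, hk⟩ := hr1'
      have h2 : (2 : ℤ) ^ (n - 1) = 2 * 2 ^ (n - 2) := by rw [← pow_succ']; congr 1; omega
      obtain ⟨c, hc⟩ := hx2
      have hd : (2 : ℤ) ^ (n - 1) ∣ i * (1 + 2 ^ (n - 2) * k) := by
        refine ⟨c, mul_left_cancel₀ (show (2 : ℤ) ≠ 0 from two_ne_zero) ?_⟩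
        linear_combination hc - i * hk - i * k * h2
      refine Int.prime_two.pow_dvd_of_dvd_mul_right (n - 1) ?_ hd
      rw [← even_iff_two_dvd]
      have he' : Even ((2 : ℤ) ^ (n - 2) * k) :=
        Even.mul_right (even_two.pow_of_ne_zero (by omega)) k
      simp [Int.even_add, he']
  have hconj : ∀ g : G, ∀ x ∈ U, g * x * g⁻¹ ∈ U := by
    intro g x hx
    refine hinv _ (hB.conj_mem x ((sup_le_sup_right (Subgroup.zpowers_le.2 hzA) _ : U ≤ A ⊔ Subgroup.zpowers e) hx) g) ?_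
    rw [show g * x * g⁻¹ * (g * x * g⁻¹) = g * (x * x) * g⁻¹ by group, ← sq, hU.2 x hx, mul_one,
      mul_inv_cancel]
  refine ⟨U, ⟨fun x hx g => hconj g x hx⟩, hU, le_antisymm ?_ ?_⟩
  · refine (OddOrder.Rank.card_sup_le_of_commute fun x hx y hy => ?_).trans ?_
    · exact PGroups.elemAb_comm hU (Subgroup.mem_sup_left hx) (Subgroup.mem_sup_right hy)
    · rw [Nat.card_zpowers, Nat.card_zpowers, sq]
      exact Nat.mul_le_mul (Nat.le_of_dvd two_pos (orderOf_dvd_of_pow_eq_one (by rw [sq, hz2])))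
        (Nat.le_of_dvd two_pos (orderOf_dvd_of_pow_eq_one (hE.2 e he)))
  · obtain ⟨k, hk⟩ := PGroups.elemAb_card_eq_pow hU
    rw [hk]
    refine Nat.pow_le_pow_right two_pos ?_
    by_contra hlt
    have hU2 : Nat.card ↥U ≤ 2 := by
      rw [hk]; exact (Nat.pow_le_pow_right two_pos (by omega : k ≤ 1)).trans (by norm_num)
    have hzU : Subgroup.zpowers z = U := Subgroup.eq_of_le_of_card_ge le_sup_left (by
      rw [Nat.card_zpowers, orderOf_eq_prime (p := 2) (by rw [sq, hz2]) hz1]; exact hU2)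
    exact heA (Subgroup.zpowers_le.2 hzA (hzU ▸ Subgroup.mem_sup_right (Subgroup.mem_zpowers e)))

/-- A p-group of rank greater than 2 has a normal elementary abelian subgroup of order `p²`. -/
theorem exists_normal_sq [Finite G] [hp : Fact p.Prime] (hG : IsPGroup p G) (hrk : ¬ PRankLE p 2 G) :
    ∃ U : Subgroup G, U.Normal ∧ IsElementaryAbelian p U ∧ Nat.card ↥U = p ^ 2 := by
  by_cases h2 : p = 2
  · subst h2
    exact exists_normal_sq_two hG hrk
  · refine PGroups.exists_normal_elemAb_sq h2 hG fun hc => hrk fun A hA1 hA2 => ?_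
    haveI : IsCyclic G := hc
    exact (Nat.le_of_dvd hp.out.pos (PGroups.elemAb_card_dvd_of_isCyclic (A := A) ⟨hA1, hA2⟩)).trans
      (Nat.le_self_pow (by norm_num) p)

/-- The index of the centralizer of a normal elementary abelian subgroup of order `p²` is at most `p`. -/
theorem relIndex_centralizer_le [Finite G] [hp : Fact p.Prime] (hG : IsPGroup p G) {U : Subgroup G}
    [U.Normal] (hU : IsElementaryAbelian p U) (hUc : Nat.card ↥U = p ^ 2) :
    (Subgroup.centralizer (U : Set G)).index ≤ p := by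
  obtain ⟨Z, hZn, hZU, hZc⟩ := PGroups.exists_normal_le_card hG U (k := 1) (by
    rw [hUc]; exact Nat.pow_le_pow_right hp.out.pos (by norm_num))
  rw [pow_one] at hZc
  have hZcen : Z ≤ Subgroup.center G := PGroups.le_center_of_normal_card_prime hG Z hZc
  obtain ⟨u, hu, huZ⟩ : ∃ u ∈ U, u ∉ Z := by
    by_contra! h
    have := Subgroup.card_le_of_le (h : U ≤ Z)
    rw [hUc, hZc, sq] at this
    have := hp.out.one_lt
    nlinarith
  have hUZ : U = Z ⊔ Subgroup.zpowers u := by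
    refine (Subgroup.eq_of_le_of_card_ge (sup_le hZU (Subgroup.zpowers_le.2 hu)) ?_).symm
    obtain ⟨k, hk⟩ := IsPGroup.iff_card.1 (hG.to_subgroup (Z ⊔ Subgroup.zpowers u))
    rw [hUc, hk]
    refine Nat.pow_le_pow_right hp.out.pos ?_
    by_contra hlt
    have heq : Z = Z ⊔ Subgroup.zpowers u := Subgroup.eq_of_le_of_card_ge le_sup_left (by
      rw [hk, hZc]
      exact (Nat.pow_le_pow_right hp.out.pos (by omega : k ≤ 1)).trans (pow_one p).le)
    exact huZ (heq ▸ Subgroup.mem_sup_right (Subgroup.mem_zpowers u))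
  -- the conjugates of `u` lie in `u Z`
  set W := ⁅U, (⊤ : Subgroup G)⁆ with hW
  have hWn : W.Normal := Subgroup.commutator_normal U ⊤
  have hWU : W ≤ U := Subgroup.commutator_le_left U ⊤
  have hWne : W ≠ U := by
    intro h
    haveI : Group.IsNilpotent ↥(⊤ : Subgroup G) := (hG.to_subgroup ⊤).isNilpotent
    obtain ⟨n, hn⟩ := (Subgroup.isNilpotent_iff_lowerCentralSeries (⊤ : Subgroup G)).1 inferInstance
    have hall : ∀ m, U ≤ (⊤ : Subgroup G).lowerCentralSeries m := by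
      intro m
      induction m with
      | zero => exact le_top
      | succ m ih => exact h.ge.trans (Subgroup.commutator_mono ih le_rfl)
    have hUb : U = ⊥ := le_bot_iff.1 (hn ▸ hall n)
    rw [hUb, Subgroup.card_bot] at hUc
    exact absurd hUc.symm (Nat.one_lt_pow (by norm_num) hp.out.one_lt).ne'
  have hWc : W ≤ Subgroup.center G := by
    obtain ⟨j, hj⟩ := IsPGroup.iff_card.1 (hG.to_subgroup W)
    have hlt : j < 2 := by
      by_contra hge
      exact hWne (Subgroup.eq_of_le_of_card_ge hWU (by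
        rw [hUc, hj]; exact Nat.pow_le_pow_right hp.out.pos (by omega)))
    interval_cases j
    · exact (Subgroup.card_eq_one.1 (hj.trans (pow_zero p))).le.trans bot_le
    · exact PGroups.le_center_of_normal_card_prime hG W (by rw [hj, pow_one])
  have hcomm : ∀ g : G, g * u * g⁻¹ * u⁻¹ ∈ Z := by
    intro g
    by_cases hWZ : W ≤ Z
    · have h := hWZ (Subgroup.commutator_mem_commutator hu (Subgroup.mem_top g))
      rw [commutatorElement_def] at h
      simpa [mul_assoc] using Z.inv_mem h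
    · have hUW : Z ⊔ W = U := by
        refine Subgroup.eq_of_le_of_card_ge (sup_le hZU hWU) ?_
        obtain ⟨j, hj⟩ := IsPGroup.iff_card.1 (hG.to_subgroup (Z ⊔ W))
        rw [hUc, hj]
        refine Nat.pow_le_pow_right hp.out.pos ?_
        by_contra hlt
        refine hWZ ((Subgroup.eq_of_le_of_card_ge (le_sup_left : Z ≤ Z ⊔ W) ?_) ▸ le_sup_right)
        rw [hj, hZc]
        exact (Nat.pow_le_pow_right hp.out.pos (by omega : j ≤ 1)).trans (pow_one p).le
      have hucen := Subgroup.mem_center_iff.1 ((hUW ▸ sup_le hZcen hWc : U ≤ Subgroup.center G) hu) g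
      rw [hucen, mul_inv_cancel_right, mul_inv_cancel]
      exact Z.one_mem
  -- the commutator map is a homomorphism into `Z`
  let φ : G →* ↥Z := MonoidHom.mk' (fun g => ⟨g * u * g⁻¹ * u⁻¹, hcomm g⟩) (fun g h => Subtype.ext (by
    show g * h * u * (g * h)⁻¹ * u⁻¹ = g * u * g⁻¹ * u⁻¹ * (h * u * h⁻¹ * u⁻¹)
    have hz := Subgroup.mem_center_iff.1 (hZcen (hcomm h))
    calc g * h * u * (g * h)⁻¹ * u⁻¹ = g * (h * u * h⁻¹ * u⁻¹) * u * g⁻¹ * u⁻¹ := by group
      _ = (h * u * h⁻¹ * u⁻¹) * (g * u * g⁻¹ * u⁻¹) := by rw [hz g]; group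
      _ = _ := (hz _).symm))
  have hker : φ.ker ≤ Subgroup.centralizer (U : Set G) := by
    intro g hg
    have h1 : g * u * g⁻¹ * u⁻¹ = 1 := congrArg Subtype.val hg
    rw [mul_inv_eq_one, mul_inv_eq_iff_eq_mul] at h1
    have hle : U ≤ Subgroup.centralizer ({g} : Set G) := by
      rw [hUZ]
      refine sup_le (fun z hz => ?_) (Subgroup.zpowers_le.2 ?_)
      · exact Subgroup.mem_centralizer_singleton_iff.2 (Subgroup.mem_center_iff.1 (hZcen hz) g).symm
      · exact Subgroup.mem_centralizer_singleton_iff.2 h1.symm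
    exact Subgroup.mem_centralizer_iff.2 fun y hy => Subgroup.mem_centralizer_singleton_iff.1 (hle hy)
  refine le_trans (Nat.le_of_dvd ?_ (Subgroup.index_dvd_of_le hker)) ?_
  · exact Nat.pos_of_ne_zero Subgroup.index_ne_zero_of_finite
  · rw [Subgroup.index_ker, ← hZc]
    exact Subgroup.card_le_card_group _

/-- The adjacency relation of the rank 2 commuting graph. -/
abbrev rel (p : ℕ) : Subgroup G → Subgroup G → Prop := fun A B =>
  IsElementaryAbelian p A ∧ p ^ 2 ≤ Nat.card ↥A ∧ IsElementaryAbelian p B ∧ p ^ 2 ≤ Nat.card ↥B ∧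
    ∀ a ∈ A, ∀ b ∈ B, a * b = b * a

theorem rel_symm : ∀ A B : Subgroup G, rel p A B → rel p B A :=
  fun _ _ h => ⟨h.2.2.1, h.2.2.2.1, h.1, h.2.1, fun a ha b hb => (h.2.2.2.2 b hb a ha).symm⟩

/-- In a p-group of rank > 2, a vertex is joined to `U` exactly when its centralizer has rank > 2. -/
theorem reach_iff [Finite G] [hp : Fact p.Prime] (hG : IsPGroup p G) (hrk : ¬ PRankLE p 2 G)
    {U : Subgroup G} [U.Normal] (hU : IsElementaryAbelian p U) (hUc : Nat.card ↥U = p ^ 2)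
    (X : Subgroup G) (hX : IsElementaryAbelian p X) (hXc : p ^ 2 ≤ Nat.card ↥X) :
    Relation.ReflTransGen (rel p) X U ↔ ¬ PRankLE p 2 ↥(Subgroup.centralizer (X : Set G)) := by
  have hcent : ∀ E : Subgroup G, IsElementaryAbelian p E → p ^ 2 < Nat.card ↥E →
      p ^ 2 ≤ Nat.card ↥(E ⊓ Subgroup.centralizer (U : Set G)) := by
    intro E hE hEc
    have h1 := relIndex_centralizer_le hG hU hUc
    have h2 := Subgroup.card_mul_index ((Subgroup.centralizer (U : Set G)).subgroupOf E)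
    rw [Nat.card_congr (((MulEquiv.subgroupCongr (Subgroup.inf_subgroupOf_left _ E).symm).trans
        (Subgroup.subgroupOfEquivOfLe inf_le_left)).toEquiv)] at h2
    obtain ⟨k, hk⟩ := PGroups.elemAb_card_eq_pow hE
    obtain ⟨j, hj⟩ := PGroups.elemAb_card_eq_pow (PGroups.elemAb_mono hE
      (inf_le_left : E ⊓ Subgroup.centralizer (U : Set G) ≤ E))
    have h3 : ((Subgroup.centralizer (U : Set G)).subgroupOf E).index ≤ p :=
      le_trans (Nat.le_of_dvd (Nat.pos_of_ne_zero Subgroup.index_ne_zero_of_finite)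
        (Subgroup.relIndex_dvd_index_of_normal _ _)) h1
    rw [hk] at hEc h2
    rw [hj] at h2 ⊢
    have hk3 : 3 ≤ k := (Nat.pow_lt_pow_iff_right hp.out.one_lt).1 hEc
    refine Nat.pow_le_pow_right hp.out.pos ?_
    have h4 : p ^ k ≤ p ^ (j + 1) := by
      rw [← h2, pow_succ]; exact Nat.mul_le_mul_left _ h3
    have := (Nat.pow_le_pow_iff_right hp.out.one_lt).1 h4
    omega
  obtain ⟨E, -, hE, hEc⟩ := OddOrder.Rank.exists_elemAb_of_not_prankLE (H := (⊤ : Subgroup G)) (p := p) (k := 2) (by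
    intro h
    exact hrk fun B hB1 hB2 => OddOrder.Rank.prankLE_subgroup_iff.1 h B le_top ⟨hB1, hB2⟩)
  have hcX : ∀ Y : Subgroup G, IsElementaryAbelian p Y → ∀ E : Subgroup G, IsElementaryAbelian p E →
      p ^ 2 < Nat.card ↥E → E ≤ Subgroup.centralizer (Y : Set G) →
      ¬ PRankLE p 2 ↥(Subgroup.centralizer (Y : Set G)) :=
    fun Y _ E hE hEc hle => OddOrder.Rank.not_prankLE_of_elemAb hle hE hEc
  -- the centralizer of `U` has rank > 2
  have hUrk : ¬ PRankLE p 2 ↥(Subgroup.centralizer (U : Set G)) := by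
    have h1 := hcent E hE hEc
    set F := E ⊓ Subgroup.centralizer (U : Set G) with hF
    have hFe := PGroups.elemAb_mono hE (inf_le_left : F ≤ E)
    by_cases hFU : F ≤ U
    · have hFU' : F = U := Subgroup.eq_of_le_of_card_ge hFU (by rw [hUc]; exact h1)
      refine hcX U hU E hE hEc ?_
      rw [← hFU']
      intro x hx
      exact Subgroup.mem_centralizer_iff.2 fun y hy => PGroups.elemAb_comm hE hy.1 hx
    · have hFC : ∀ x ∈ F, ∀ y ∈ U, x * y = y * x := fun x hx y hy =>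
        (Subgroup.mem_centralizer_iff.1 hx.2 y hy).symm
      refine hcX U hU (F ⊔ U) (PGroups.elemAb_sup hFe hU hFC) ?_
        (sup_le inf_le_right (Subgroup.le_centralizer_iff_isMulCommutative.2 hU.1))
      rw [← hUc]
      refine lt_of_le_of_ne (Subgroup.card_le_of_le le_sup_right) fun h => hFU ?_
      rw [Subgroup.eq_of_le_of_card_ge (le_sup_right : U ≤ F ⊔ U) h.ge]
      exact le_sup_left
  constructor
  · intro hreach hle
    -- `X` is an isolated vertex
    have hmax : ∀ B : Subgroup G, rel p X B → B = X := by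
      intro B h
      have hB := PGroups.elemAb_sup hX h.2.2.1 h.2.2.2.2
      have hle' : X ⊔ B ≤ Subgroup.centralizer (X : Set G) := sup_le
        (Subgroup.le_centralizer_iff_isMulCommutative.2 hX.1)
        (fun b hb => Subgroup.mem_centralizer_iff.2 fun a ha => h.2.2.2.2 a ha b hb)
      have hc := OddOrder.Rank.prankLE_subgroup_iff.1 hle _ hle' hB
      have h1 : X = X ⊔ B := Subgroup.eq_of_le_of_card_ge le_sup_left (hc.trans hXc)
      have h2 : B = X ⊔ B := Subgroup.eq_of_le_of_card_ge le_sup_right (hc.trans h.2.2.2.1)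
      exact h2.trans h1.symm
    have key : ∀ B, Relation.ReflTransGen (rel p) X B → B = X := by
      intro B h
      induction h with
      | refl => rfl
      | tail _ hbc ih => rw [ih] at hbc; exact hmax _ hbc
    exact hUrk ((key U hreach).symm ▸ hle)
  · intro h
    obtain ⟨E', hE'le, hE', hE'c⟩ := OddOrder.Rank.exists_elemAb_of_not_prankLE h
    have h1 := hcent E' hE' hE'c
    set F := E' ⊓ Subgroup.centralizer (U : Set G)
    have hFe := PGroups.elemAb_mono hE' (inf_le_left : F ≤ E')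
    refine (Relation.ReflTransGen.single ⟨hX, hXc, hFe, h1, fun a ha b hb => ?_⟩).tail
      ⟨hFe, h1, hU, hUc.ge, fun a ha b hb => (Subgroup.mem_centralizer_iff.1 ha.2 b hb).symm⟩
    exact Subgroup.mem_centralizer_iff.1 (hE'le hb.1) a ha

end Cfsg.Agent.Lib.PConnected
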