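import Cfsg.Agent.Lib.PConnected.Basic
import Cfsg.Agent.S0100
import Cfsg.Agent.Lib.Balance.Permute

/-!
# Normal elementary abelian subgroups of order p^4, p odd; 3-groups of rank 4

Owner: helper34. Namespace `Cfsg.Agent.Lib.PConnected`.
-/

set_option autoImplicit false

open Cfsg Subgroup
open Cfsg.Agent.Lib
open scoped commutatorElement

namespace Cfsg.Agent.Lib.PConnected

variable {G : Type*} [Group G] {p : ℕ}

/-- Elementary abelian normal subgroups are contained in one maximal among such. -/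
theorem exists_max_normal_elemAb [Finite G] (A : Subgroup G) [hn : A.Normal]
    (hA : IsElementaryAbelian p A) :
    ∃ B : Subgroup G, A ≤ B ∧ B.Normal ∧ IsElementaryAbelian p B ∧
      ∀ C : Subgroup G, C.Normal → IsElementaryAbelian p C → B ≤ C → C = B := by
  obtain ⟨B, ⟨hBn, hB, hAB⟩, hmax⟩ :=
    (Set.toFinite {B : Subgroup G | B.Normal ∧ IsElementaryAbelian p B ∧ A ≤ B}).exists_maximal
      ⟨A, hn, hA, le_rfl⟩
  exact ⟨B, hAB, hBn, hB, fun C hCn hC hle => le_antisymm (hmax ⟨hCn, hC, hAB.trans hle⟩ hle) hle⟩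

/-- Subgroups `A ≤ E` of a `p`-group: one of every intermediate order. -/
theorem exists_between [Finite G] [Fact p.Prime] {E H : Subgroup G} (hE : IsPGroup p ↥E) (hHE : H ≤ E)
    {n : ℕ} (h1 : Nat.card ↥H ≤ p ^ n) (h2 : p ^ n ≤ Nat.card ↥E) :
    ∃ K : Subgroup G, H ≤ K ∧ K ≤ E ∧ Nat.card ↥K = p ^ n := by
  obtain ⟨m, hm⟩ := IsPGroup.iff_card.1 hE
  obtain ⟨j, hj⟩ := IsPGroup.iff_card.1 (hE.to_le hHE)
  have hp1 := (Fact.out : p.Prime).one_lt
  rw [hj] at h1
  rw [hm] at h2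
  obtain ⟨K, hK, hKle⟩ := Sylow.exists_subgroup_card_pow_prime_le (G := ↥E) p (n := j) (m := n)
    (by rw [hm]; exact pow_dvd_pow p ((Nat.pow_le_pow_iff_right hp1).1 h2))
    (H.subgroupOf E) (by rw [Nat.card_congr (Subgroup.subgroupOfEquivOfLe hHE).toEquiv, hj])
    ((Nat.pow_le_pow_iff_right hp1).1 h1)
  refine ⟨K.map E.subtype, ?_, Subgroup.map_subtype_le _, ?_⟩
  · rw [← Subgroup.map_subgroupOf_eq_of_le hHE]
    exact Subgroup.map_mono hKle
  · rw [Nat.card_congr (K.equivMapOfInjective _ E.subtype_injective).symm.toEquiv, hK]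

/-- Two mutually normalizing elementary abelian subgroups: quotients of their elements have order
dividing `p`. -/
theorem pow_eq_one_of_normalize (hp2 : p ≠ 2) [hp : Fact p.Prime] {E F : Subgroup G}
    (hE : IsElementaryAbelian p E) (hF : IsElementaryAbelian p F)
    (hEF : E ≤ Subgroup.normalizer (F : Set G)) (hFE : F ≤ Subgroup.normalizer (E : Set G))
    {f e : G} (hf : f ∈ F) (he : e ∈ E) : (f * e⁻¹) ^ p = 1 := by
  have hc : ⁅e⁻¹, f⁆ ∈ E ⊓ F := by
    refine ⟨?_, ?_⟩
    · rw [commutatorElement_def, inv_inv, mul_assoc, mul_assoc, ← mul_assoc f]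
      exact E.mul_mem (E.inv_mem he) ((Subgroup.mem_normalizer_iff.1 (hFE hf) e).1 he)
    · rw [commutatorElement_def]
      exact F.mul_mem ((Subgroup.mem_normalizer_iff.1 (hEF (E.inv_mem he)) f).1 hf) (F.inv_mem hf)
  rw [PGroups.mul_pow_of_central_commutator f e⁻¹ (PGroups.elemAb_comm hF hf hc.2)
    (PGroups.elemAb_comm hE (E.inv_mem he) hc.1) p, hF.2 f hf, hE.2 _ (E.inv_mem he), one_mul,
    one_mul, Nat.choose_two_right]
  have hd : p ∣ p * (p - 1) / 2 := by
    have : 2 ∣ p - 1 := even_iff_two_dvd.1 (Nat.Prime.even_sub_one hp.out hp2)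
    rw [Nat.mul_div_assoc _ this]
    exact Dvd.intro _ rfl
  obtain ⟨k, hk⟩ := hd
  rw [hk, pow_mul, hE.2 _ hc.1, one_pow]

/-- The configuration with no normal elementary abelian subgroup of order `p⁴`. -/
theorem eq_of_normalize [Finite G] [hp : Fact p.Prime] (hp2 : p ≠ 2) {A W : Subgroup G}
    [A.Normal] [W.Normal] (hA : IsElementaryAbelian p A) (hWA : W ≤ A)
    (hAc : Nat.card ↥A = p ^ 3) (hWc : Nat.card ↥W = p ^ 2)
    (hAW : ∀ a ∈ A, ∀ g : G, ⁅a, g⁆ ∈ W)
    (hmax : ∀ x ∈ Subgroup.centralizer (A : Set G), x ^ p = 1 → x ∈ A) {E F : Subgroup G}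
    (hE : IsElementaryAbelian p E) (hF : IsElementaryAbelian p F) (hEc : Nat.card ↥E = p ^ 4)
    (hFc : Nat.card ↥F = p ^ 4) (hWE : W ≤ E) (hWF : W ≤ F)
    (hEF : E ≤ Subgroup.normalizer (F : Set G)) (hFE : F ≤ Subgroup.normalizer (E : Set G)) :
    E = F := by
  -- intersection with `A`
  have hinf : ∀ X : Subgroup G, IsElementaryAbelian p X → Nat.card ↥X = p ^ 4 → W ≤ X →
      ∀ x ∈ X, (∀ a ∈ A, a * x = x * a) → x ∈ W := by
    intro X hX hXc hWX x hx hxc
    have hxA : x ∈ A := hmax x (Subgroup.mem_centralizer_iff.2 hxc) (hX.2 x hx)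
    by_contra hxW
    have hAX : A ≤ X := by
      have hlt : W < A ⊓ X := lt_of_le_of_ne (le_inf hWA hWX) fun h => hxW (h ▸ ⟨hxA, hx⟩)
      have heq : A ⊓ X = A := by
        refine Subgroup.eq_of_le_of_card_ge inf_le_left ?_
        obtain ⟨k, hk⟩ := PGroups.elemAb_card_eq_pow (PGroups.elemAb_mono hX (inf_le_right : A ⊓ X ≤ X))
        rw [hAc, hk]
        refine Nat.pow_le_pow_right hp.out.pos ?_
        by_contra hk3
        refine hlt.ne (Subgroup.eq_of_le_of_card_ge hlt.le ?_)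
        rw [hWc, hk]
        exact Nat.pow_le_pow_right hp.out.pos (by omega)
      exact heq ▸ inf_le_right
    have hXA : X ≤ A := fun y hy => hmax y
      (Subgroup.mem_centralizer_iff.2 fun a ha => PGroups.elemAb_comm hX (hAX ha) hy) (hX.2 y hy)
    have := Subgroup.card_le_of_le hXA
    rw [hXc, hAc] at this
    exact absurd ((Nat.pow_le_pow_iff_right hp.out.one_lt).1 this) (by norm_num)
  obtain ⟨a, haA, haW⟩ : ∃ a ∈ A, a ∉ W := by
    by_contra! h
    have := Subgroup.card_le_of_le h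
    rw [hWc, hAc] at this
    exact absurd ((Nat.pow_le_pow_iff_right hp.out.one_lt).1 this) (by norm_num)
  have hsplit : ∀ b ∈ A, b ∉ W → ∀ d ∈ A, ∃ w ∈ W, ∃ j : ℕ, d = b ^ j * w := by
    intro b hb hbW d hd
    have hA' : Subgroup.zpowers b ⊔ W = A := by
      refine Subgroup.eq_of_le_of_card_ge (sup_le (Subgroup.zpowers_le.2 hb) hWA) ?_
      obtain ⟨k, hk⟩ := PGroups.elemAb_card_eq_pow (PGroups.elemAb_mono hA
        (sup_le (Subgroup.zpowers_le.2 hb) hWA))
      rw [hAc, hk]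
      refine Nat.pow_le_pow_right hp.out.pos ?_
      by_contra hk3
      refine hbW ?_
      have he := Subgroup.eq_of_le_of_card_ge (le_sup_right : W ≤ Subgroup.zpowers b ⊔ W)
        (by rw [hWc, hk]; exact Nat.pow_le_pow_right hp.out.pos (by omega))
      exact he ▸ Subgroup.mem_sup_left (Subgroup.mem_zpowers b)
    rw [← hA', ← SetLike.mem_coe, Subgroup.mul_normal] at hd
    obtain ⟨u, hu, w, hw, rfl⟩ := hd
    obtain ⟨j, hj⟩ := (isOfFinOrder_of_finite b).mem_powers_iff_mem_zpowers.2 hu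
    exact ⟨w, hw, j, by rw [show b ^ j = u from hj]⟩
  have hWc' : ∀ X : Subgroup G, IsElementaryAbelian p X → W ≤ X → ∀ x ∈ X, ∀ w ∈ W, w * x = x * w :=
    fun X hX hWX x hx w hw => PGroups.elemAb_comm hX (hWX hw) hx
  -- the commutator maps with `a` are onto `W`
  have hsurj : ∀ X : Subgroup G, IsElementaryAbelian p X → Nat.card ↥X = p ^ 4 → W ≤ X →
      ∀ w ∈ W, ∃ x ∈ X, ⁅a, x⁆ = w := by
    intro X hX hXc hWX
    let φ : ↥X →* ↥W := MonoidHom.mk' (fun x => ⟨⁅a, (x : G)⁆, hAW a haA x⟩) (fun x y => Subtype.ext (by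
      show ⁅a, (x : G) * y⁆ = ⁅a, (x : G)⁆ * ⁅a, (y : G)⁆
      rw [commutatorElement_mul_right_eq_mul_conj, mul_assoc _ (x : G),
        ← hWc' X hX hWX x x.2 _ (hAW a haA y), ← mul_assoc, mul_inv_cancel_right]))
    have hker : φ.ker ≤ W.subgroupOf X := by
      intro x hx
      refine hinf X hX hXc hWX x x.2 fun b hb => ?_
      obtain ⟨w, hw, j, rfl⟩ := hsplit a haA haW b hb
      have hc : Commute a (x : G) :=
        commutatorElement_eq_one_iff_mul_comm.1 (congrArg Subtype.val hx)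
      exact ((hc.pow_left j).mul_left (hWc' X hX hWX x x.2 w hw)).eq
    have h1 := Subgroup.card_le_of_le hker
    rw [Nat.card_congr (Subgroup.subgroupOfEquivOfLe hWX).toEquiv, hWc] at h1
    have h2 := φ.ker.card_mul_index
    rw [Subgroup.index_ker, hXc] at h2
    have hr : p ^ 2 ≤ Nat.card ↥φ.range := by
      refine Nat.le_of_mul_le_mul_left (a := p ^ 2) ?_ (pow_pos hp.out.pos 2)
      rw [← pow_add, ← h2]
      exact Nat.mul_le_mul_right _ h1
    have htop : φ.range = ⊤ := Subgroup.eq_top_of_le_card _ (by rw [hWc]; exact hr)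
    intro w hw
    obtain ⟨x, hx⟩ := htop.ge (Subgroup.mem_top (⟨w, hw⟩ : ↥W))
    exact ⟨x, x.2, congrArg Subtype.val hx⟩
  -- elements with equal images differ by an element of `A`
  have hdiff : ∀ f ∈ F, ∀ e ∈ E, ⁅a, f⁆ = ⁅a, e⁆ → f * e⁻¹ ∈ A := by
    intro f hf e he h
    refine hmax _ (Subgroup.mem_centralizer_iff.2 fun b hb => ?_)
      (pow_eq_one_of_normalize hp2 hE hF hEF hFE hf he)
    obtain ⟨w, hw, j, rfl⟩ := hsplit a haA haW b hb
    have hw1 := (hWc' F hF hWF f hf w hw)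
    have hw2 := (hWc' E hE hWE e he w hw)
    have hc : Commute a (f * e⁻¹) := by
      have h' : a * f * a⁻¹ = ⁅a, e⁆ * f := by rw [← h]; group
      have he' : a * e * a⁻¹ = ⁅a, e⁆ * e := by group
      show a * (f * e⁻¹) = f * e⁻¹ * a
      rw [← mul_inv_eq_iff_eq_mul,
        show a * (f * e⁻¹) * a⁻¹ = (a * f * a⁻¹) * (a * e * a⁻¹)⁻¹ by group, h', he']
      have hcf := hWc' F hF hWF f hf _ (hAW a haA e)
      have hce : ⁅a, e⁆ * e = e * ⁅a, e⁆ := hWc' E hE hWE e he _ (hAW a haA e)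
      rw [hcf, hce]
      generalize ⁅a, e⁆ = u
      group
    exact (hc.pow_left j).mul_left ((show Commute w f from hw1).mul_right
      (show Commute w e from hw2).inv_right)
  by_contra hne
  obtain ⟨f, hf, hfE⟩ : ∃ f ∈ F, f ∉ E := by
    by_contra! h
    exact hne (Subgroup.eq_of_le_of_card_ge h (by rw [hEc, hFc])).symm
  obtain ⟨e, he, hef⟩ := hsurj E hE hEc hWE ⁅a, f⁆ (hAW a haA f)
  set c := f * e⁻¹ with hc
  have hcA : c ∈ A := hdiff f hf e he hef.symm
  have hcW : c ∉ W := fun h => hfE (by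
    have : f = c * e := by rw [hc]; group
    rw [this]; exact E.mul_mem (hWE h) he)
  -- now `E = ⟨e⟩W`
  have hall : E ≤ Subgroup.zpowers e ⊔ W := by
    intro g hg
    obtain ⟨g', hg', hgg⟩ := hsurj F hF hFc hWF ⁅a, g⁆ (hAW a haA g)
    obtain ⟨w, hw, j, hd⟩ := hsplit c hcA hcW _ (hdiff g' hg' g hg hgg)
    have hfe : f = c * e := by rw [hc]; group
    have hcm : Commute (c ^ j * g) (c * e) := by
      have hge : g' = w * (c ^ j * g) := by
        rw [← mul_assoc, PGroups.elemAb_comm hA (hWA hw) (A.pow_mem hcA j), ← hd]; group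
      have h1 : Commute g' f := PGroups.elemAb_comm hF hg' hf
      have h2 : Commute w f := hWc' F hF hWF f hf w hw
      have h3 := h2.inv_left.mul_left h1
      rw [hge, inv_mul_cancel_left, hfe] at h3
      exact h3
    set u := c⁻¹ * (g * c * g⁻¹) with hu
    set v := c⁻¹ * (e ^ j * c * (e ^ j)⁻¹) with hv
    have hvpow : v = (c⁻¹ * (e * c * e⁻¹)) ^ j := by
      rw [hv]
      clear hcm hu hv hd
      induction j with
      | zero => simp
      | succ j ih =>
        have hx : c⁻¹ * (e * c * e⁻¹) ∈ W := by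
          have := hAW c⁻¹ (A.inv_mem hcA) e
          rwa [commutatorElement_def, inv_inv, mul_assoc, mul_assoc, ← mul_assoc e] at this
        rw [pow_succ' e j, pow_succ _ j, ← ih]
        set X := c⁻¹ * (e * c * e⁻¹) with hX
        set Y := c⁻¹ * (e ^ j * c * (e ^ j)⁻¹) with hY
        have hyW : Y ∈ W := by rw [ih]; exact W.pow_mem hx j
        have hcomm : e * Y = Y * e := (hWc' E hE hWE e he Y hyW).symm
        calc c⁻¹ * (e * e ^ j * c * (e * e ^ j)⁻¹)
            = c⁻¹ * (e * (c * Y) * e⁻¹) := by rw [hY]; group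
          _ = c⁻¹ * (e * c * e⁻¹) * (e * Y * e⁻¹) := by group
          _ = X * Y := by rw [hX, hcomm, mul_inv_cancel_right]
          _ = Y * X := PGroups.elemAb_comm hA (hWA hx) (hWA hyW)
    have huv : u = v := by
      set X := c⁻¹ * (e * c * e⁻¹) with hX
      have hXW : X ∈ W := by
        have := hAW c⁻¹ (A.inv_mem hcA) e
        rwa [commutatorElement_def, inv_inv, mul_assoc, mul_assoc, ← mul_assoc e] at this
      have huA : u ∈ A := A.mul_mem (A.inv_mem hcA) (Subgroup.Normal.conj_mem inferInstance c hcA g)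
      rw [hvpow]
      have key : ∀ i : ℕ, e * c ^ i = c ^ i * X ^ i * e := by
        intro i
        have hcx : Commute c X := PGroups.elemAb_comm hA hcA (hWA hXW)
        have : (e * c * e⁻¹) ^ i = c ^ i * X ^ i := by
          rw [show e * c * e⁻¹ = c * X by rw [hX]; group, hcx.mul_pow]
        rw [conj_pow] at this
        rw [← this]; group
      have hlhs : c ^ j * g * (c * e) = c ^ (j + 1) * u * (g * e) := by
        rw [pow_succ, hu]; group
      have hrhs : c * e * (c ^ j * g) = c ^ (j + 1) * X ^ j * (g * e) := by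
        rw [show c * e * (c ^ j * g) = c * (e * c ^ j) * g by group, key,
          show g * e = e * g from PGroups.elemAb_comm hE hg he, pow_succ']
        group
      have h := hcm.eq
      rw [hlhs, hrhs] at h
      exact mul_left_cancel (mul_right_cancel h)
    have hgc : ∀ b ∈ A, b * (g⁻¹ * e ^ j) = g⁻¹ * e ^ j * b := by
      intro b hb
      obtain ⟨w, hw, i, rfl⟩ := hsplit c hcA hcW b hb
      have h1 : g * c * g⁻¹ = e ^ j * c * (e ^ j)⁻¹ := mul_left_cancel huv
      have h2 : Commute c (g⁻¹ * e ^ j) := by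
        show c * (g⁻¹ * e ^ j) = g⁻¹ * e ^ j * c
        calc c * (g⁻¹ * e ^ j) = g⁻¹ * (g * c * g⁻¹) * e ^ j := by group
          _ = _ := by rw [h1]; group
      exact (h2.pow_left i).mul_left
        (hWc' E hE hWE _ (E.mul_mem (E.inv_mem hg) (E.pow_mem he j)) w hw)
    have h4 := hinf E hE hEc hWE _ (E.mul_mem (E.inv_mem hg) (E.pow_mem he j)) hgc
    have : g = e ^ j * (g⁻¹ * e ^ j)⁻¹ := by group
    rw [this]
    exact mul_mem (Subgroup.mem_sup_left (Subgroup.pow_mem _ (Subgroup.mem_zpowers e) j))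
      (Subgroup.mem_sup_right (W.inv_mem h4))
  have h := (Subgroup.card_le_of_le hall).trans (OddOrder.Rank.card_sup_le_of_commute
    fun x hx y hy => PGroups.elemAb_comm hE (Subgroup.zpowers_le.2 he hx) (hWE hy))
  rw [hEc, Nat.card_zpowers, hWc] at h
  have h' := Nat.le_of_dvd hp.out.pos (orderOf_dvd_of_pow_eq_one (hE.2 e he))
  have : p ^ 4 ≤ p ^ 3 := by
    refine h.trans ((Nat.mul_le_mul_right _ h').trans ?_)
    rw [← pow_succ']
  exact absurd ((Nat.pow_le_pow_iff_right hp.out.one_lt).1 this) (by norm_num)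

/-- For odd `p`, a `p`-group of rank at least 4 has a normal elementary abelian subgroup of order `p⁴`. -/
theorem exists_normal_four [Finite G] [hp : Fact p.Prime] (hp2 : p ≠ 2) (hG : IsPGroup p G)
    {E : Subgroup G} (hE : IsElementaryAbelian p E) (hEc : p ^ 4 ≤ Nat.card ↥E) :
    ∃ A : Subgroup G, A.Normal ∧ IsElementaryAbelian p A ∧ Nat.card ↥A = p ^ 4 := by
  obtain ⟨A₁, hA₁n, hA₁, hA₁c⟩ : ∃ A : Subgroup G, A.Normal ∧ IsElementaryAbelian p A ∧
      Nat.card ↥A = p ^ 3 := by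
    by_contra! h
    have := Cfsg.Agent.S0100.result hp2 hG (fun A hn hc he => h A hn ⟨hc, he⟩) E hE.1 hE.2
    exact absurd ((Nat.pow_le_pow_iff_right hp.out.one_lt).1 (hEc.trans this)) (by norm_num)
  obtain ⟨A, hA₁A, hAn, hA, hAmax⟩ := exists_max_normal_elemAb A₁ hA₁
  by_cases hbig : p ^ 4 ≤ Nat.card ↥A
  · obtain ⟨M, hMn, hMA, hMc⟩ := PGroups.exists_normal_le_card hG A hbig
    exact ⟨M, hMn, PGroups.elemAb_mono hA hMA, hMc⟩
  have hAc : Nat.card ↥A = p ^ 3 := by
    have h1 := Subgroup.card_le_of_le hA₁A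
    obtain ⟨k, hk⟩ := PGroups.elemAb_card_eq_pow hA
    rw [hk, hA₁c] at h1
    rw [hk] at hbig ⊢
    have h2 := (Nat.pow_le_pow_iff_right hp.out.one_lt).1 h1
    have h3 : k < 4 := by
      by_contra h4
      exact hbig (Nat.pow_le_pow_right hp.out.pos (by omega))
    congr 1
    omega
  have hmax : ∀ x ∈ Subgroup.centralizer (A : Set G), x ^ p = 1 → x ∈ A := by
    intro x hx hxp
    refine PGroups.mem_of_maximal_exponent hG 1 (by rw [pow_one]; exact hp2) hA.1
      (fun a ha => by rw [pow_one]; exact hA.2 a ha) (fun B hBn hB hBe hle => ?_) hx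
      (by rw [pow_one]; exact hxp)
    exact hAmax B hBn ⟨hB, fun b hb => by simpa using hBe b hb⟩ hle
  obtain ⟨W, hWn, hWA, hWc⟩ := PGroups.exists_normal_le_card hG (k := 2) A
    (by rw [hAc]; exact Nat.pow_le_pow_right hp.out.pos (by norm_num))
  have hWe := PGroups.elemAb_mono hA hWA
  -- `A / W` is central
  have hAW : ∀ a ∈ A, ∀ g : G, ⁅a, g⁆ ∈ W := by
    intro a ha g
    have hcard : Nat.card ↥(A.map (QuotientGroup.mk' W)) ≤ p := by
      have h1 := Subgroup.card_mul_index ((W.subgroupOf A))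
      have e : Nat.card ↥(A.map (QuotientGroup.mk' W)) = (W.subgroupOf A).index := by
        have := Subgroup.relIndex_ker A (QuotientGroup.mk' W)
        rw [QuotientGroup.ker_mk'] at this
        exact this.symm
      rw [Nat.card_congr (Subgroup.subgroupOfEquivOfLe hWA).toEquiv, hWc, hAc, pow_succ p 2] at h1
      rw [e, Nat.eq_of_mul_eq_mul_left (pow_pos hp.out.pos 2) h1]
    haveI : (A.map (QuotientGroup.mk' W)).Normal :=
      Subgroup.Normal.map inferInstance _ (QuotientGroup.mk'_surjective W)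
    obtain ⟨k, hk⟩ := IsPGroup.iff_card.1 ((hG.to_quotient W).to_subgroup (A.map (QuotientGroup.mk' W)))
    have hcen : A.map (QuotientGroup.mk' W) ≤ Subgroup.center (G ⧸ W) := by
      rcases Nat.eq_zero_or_pos k with rfl | hk0
      · rw [Subgroup.card_eq_one.1 (hk.trans (pow_zero p))]; exact bot_le
      · refine PGroups.le_center_of_normal_card_prime (hG.to_quotient W) _ (le_antisymm hcard ?_)
        rw [hk]
        exact Nat.le_self_pow (by omega) p
    rw [← QuotientGroup.eq_one_iff, ← QuotientGroup.mk'_apply, map_commutatorElement]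
    exact commutatorElement_eq_one_iff_mul_comm.2
      (Subgroup.mem_center_iff.1 (hcen ⟨a, ha, rfl⟩) _).symm
  -- `E` may be assumed to contain `W`
  obtain ⟨E₀, hE₀, hE₀c, hWE₀⟩ : ∃ E₀ : Subgroup G, IsElementaryAbelian p E₀ ∧
      Nat.card ↥E₀ = p ^ 4 ∧ W ≤ E₀ := by
    set D := E ⊓ Subgroup.centralizer (W : Set G) with hD
    have h1 := relIndex_centralizer_le hG hWe hWc
    have h2 := Subgroup.card_mul_index ((Subgroup.centralizer (W : Set G)).subgroupOf E)
    rw [Nat.card_congr (((MulEquiv.subgroupCongr (Subgroup.inf_subgroupOf_left _ E).symm).trans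
        (Subgroup.subgroupOfEquivOfLe inf_le_left)).toEquiv)] at h2
    have h3 : ((Subgroup.centralizer (W : Set G)).subgroupOf E).index ≤ p :=
      le_trans (Nat.le_of_dvd (Nat.pos_of_ne_zero Subgroup.index_ne_zero_of_finite)
        (Subgroup.relIndex_dvd_index_of_normal _ _)) h1
    have hD3 : p ^ 3 ≤ Nat.card ↥D := by
      refine Nat.le_of_mul_le_mul_right ?_ hp.out.pos
      rw [← pow_succ]
      exact hEc.trans (h2 ▸ Nat.mul_le_mul_left _ h3)
    have hDe := PGroups.elemAb_mono hE (inf_le_left : D ≤ E)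
    have hS : IsElementaryAbelian p (D ⊔ W) :=
      PGroups.elemAb_sup hDe hWe fun x hx y hy => (Subgroup.mem_centralizer_iff.1 hx.2 y hy).symm
    have hS4 : p ^ 4 ≤ Nat.card ↥(D ⊔ W) := by
      by_contra hlt
      obtain ⟨k, hk⟩ := PGroups.elemAb_card_eq_pow hS
      rw [hk] at hlt
      have hk3 : k ≤ 3 := by
        by_contra h4
        exact hlt (Nat.pow_le_pow_right hp.out.pos (by omega))
      have hDW : D = D ⊔ W := Subgroup.eq_of_le_of_card_ge le_sup_left
        (by rw [hk]; exact (Nat.pow_le_pow_right hp.out.pos hk3).trans hD3)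
      have hWE : W ≤ E := (le_sup_right.trans hDW.ge).trans inf_le_left
      have hEC : D = E := inf_eq_left.2 fun x hx =>
        Subgroup.mem_centralizer_iff.2 fun w hw => PGroups.elemAb_comm hE (hWE hw) hx
      rw [← hk, ← hDW, hEC] at hlt
      exact hlt hEc
    obtain ⟨K, hWK, hKS, hKc⟩ := exists_between (n := 4) (hG.to_subgroup _)
      (le_sup_right : W ≤ D ⊔ W) (by rw [hWc]; exact Nat.pow_le_pow_right hp.out.pos (by norm_num)) hS4
    exact ⟨K, PGroups.elemAb_mono hS hKS, hKc, hWK⟩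
  refine ⟨E₀, ?_, hE₀, hE₀c⟩
  by_contra hnn
  set N := Subgroup.normalizer (E₀ : Set G) with hN
  haveI : Group.IsNilpotent G := hG.isNilpotent
  have hNlt : N < ⊤ := lt_top_iff_ne_top.2 fun h => hnn (Subgroup.normalizer_eq_top_iff.1 h)
  obtain ⟨g, hg, hgN⟩ := SetLike.exists_of_lt (normalizerCondition_of_isNilpotent N hNlt)
  set F := E₀.map (MulAut.conj g).toMonoidHom with hF
  have hNg : N.map (MulAut.conj g).toMonoidHom = N := Balance.mem_normalizer_iff_cj.1 hg
  have hFN : Subgroup.normalizer (F : Set G) = N := by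
    rw [hF, ← hNg, hN]
    exact (Subgroup.map_equiv_normalizer_eq E₀ (MulAut.conj g)).symm
  have hE₀N : E₀ ≤ N := Subgroup.le_normalizer
  have hFe : IsElementaryAbelian p F := by
    refine ⟨Subgroup.le_centralizer_iff_isMulCommutative.1 ?_, ?_⟩
    · rintro _ ⟨x, hx, rfl⟩
      refine Subgroup.mem_centralizer_iff.2 ?_
      rintro _ ⟨y, hy, rfl⟩
      exact (map_mul _ _ _).symm.trans ((congrArg _ (PGroups.elemAb_comm hE₀ hy hx)).trans (map_mul _ _ _))
    · rintro _ ⟨x, hx, rfl⟩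
      rw [← map_pow, hE₀.2 x hx, map_one]
  refine hgN (Balance.mem_normalizer_iff_cj.2 (eq_of_normalize hp2 hA hWA hAc hWc hAW hmax hE₀ hFe
    hE₀c ?_ hWE₀ ?_ (hFN.symm ▸ hE₀N) ?_).symm)
  · rw [hF, ← hE₀c]
    exact Nat.card_congr (E₀.equivMapOfInjective _ (MulAut.conj g).injective).symm.toEquiv
  · intro w hw
    refine ⟨g⁻¹ * w * g, hWE₀ (by simpa using hWn.conj_mem w hw g⁻¹), ?_⟩
    simp [mul_assoc]
  · rw [← hN, ← hFN]
    exact Subgroup.le_normalizer

theorem cancel_identity {M : Type*} [CommGroup M] (a b c : M) :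
    a * c⁻¹ * (c * b⁻¹)⁻¹ * (c * b⁻¹ * (b * a⁻¹)⁻¹)⁻¹ = b ^ 3 * (c ^ 3)⁻¹ := by
  apply Additive.ofMul.injective
  simp only [ofMul_mul, ofMul_inv, ofMul_pow]
  abel

/-- In a 3-group, if an elementary abelian subgroup of order at least 81 is normal, the centralizer
of any elementary abelian subgroup of order at least 9 has rank greater than 2. -/
theorem not_prankLE_centralizer [Finite G] (hG : IsPGroup 3 G) {A : Subgroup G} [A.Normal]
    (hA : IsElementaryAbelian 3 A) (hAc : 3 ^ 4 ≤ Nat.card ↥A) {X : Subgroup G}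
    (hX : IsElementaryAbelian 3 X) (hXc : 3 ^ 2 ≤ Nat.card ↥X) :
    ¬ PRankLE 3 2 ↥(Subgroup.centralizer (X : Set G)) := by
  intro hle
  haveI : Fact (Nat.Prime 3) := ⟨Nat.prime_three⟩
  have hXX : X ≤ Subgroup.centralizer (X : Set G) :=
    Subgroup.le_centralizer_iff_isMulCommutative.2 hX.1
  have hcent : ∀ a ∈ A, a ∈ Subgroup.centralizer (X : Set G) → a ∈ X := by
    intro a ha hac
    have hS : IsElementaryAbelian 3 (X ⊔ Subgroup.zpowers a) :=
      PGroups.elemAb_sup hX (PGroups.elemAb_zpowers (hA.2 a ha)) fun x hx y hy => by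
        obtain ⟨i, rfl⟩ := Subgroup.mem_zpowers_iff.1 hy
        exact ((show Commute x a from Subgroup.mem_centralizer_iff.1 hac x hx).zpow_right i).eq
    have h := OddOrder.Rank.prankLE_subgroup_iff.1 hle _
      (sup_le hXX (Subgroup.zpowers_le.2 hac)) hS
    rw [Subgroup.eq_of_le_of_card_ge (le_sup_left : X ≤ X ⊔ Subgroup.zpowers a) (h.trans hXc)]
    exact Subgroup.mem_sup_right (Subgroup.mem_zpowers a)
  have hX9 : Nat.card ↥X = 3 ^ 2 :=
    le_antisymm (OddOrder.Rank.prankLE_subgroup_iff.1 hle _ hXX hX) hXc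
  obtain ⟨x, hxX, hxA⟩ : ∃ x ∈ X, x ∉ A := by
    by_contra! h
    have hAX : A ≤ X := fun a ha => hcent a ha (Subgroup.mem_centralizer_iff.2 fun y hy =>
      PGroups.elemAb_comm hA (h y hy) ha)
    have := hAc.trans (Subgroup.card_le_of_le hAX)
    rw [hX9] at this
    norm_num at this
  -- `X ∩ A` has order 3 and `X = ⟨x⟩ (X ∩ A)`
  have hne : A ⊓ X ≠ ⊥ := by
    intro hbot
    have hAne : A ≠ ⊥ := by
      rintro rfl
      rw [Subgroup.card_bot] at hAc
      norm_num at hAc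
    obtain ⟨Z, hZA, hZc, -, hZp⟩ := PGroups.exists_central_card_prime hG A hAne
    have hZ : Z ≤ A ⊓ X := fun z hz => ⟨hZA hz, hcent z (hZA hz)
      (Subgroup.mem_centralizer_iff.2 fun y _ => Subgroup.mem_center_iff.1 (hZc hz) y)⟩
    have := Subgroup.card_le_of_le hZ
    rw [hbot, Subgroup.card_bot, hZp] at this
    omega
  have h3 : Nat.card ↥(A ⊓ X) = 3 := by
    obtain ⟨k, hk⟩ := PGroups.elemAb_card_eq_pow (PGroups.elemAb_mono hX (inf_le_right : A ⊓ X ≤ X))
    have hk0 : k ≠ 0 := fun h => hne (Subgroup.card_eq_one.1 (by rw [hk, h, pow_zero]))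
    have hk2 : k < 2 := by
      by_contra hge
      refine hxA (?_ : x ∈ A)
      have : A ⊓ X = X := Subgroup.eq_of_le_of_card_ge inf_le_right
        (by rw [hX9, hk]; exact Nat.pow_le_pow_right (by norm_num) (by omega))
      exact (this.ge hxX).1
    rw [hk, show k = 1 by omega, pow_one]
  have hXgen : X = (A ⊓ X) ⊔ Subgroup.zpowers x := by
    refine (Subgroup.eq_of_le_of_card_ge (sup_le inf_le_right (Subgroup.zpowers_le.2 hxX)) ?_).symm
    obtain ⟨k, hk⟩ := PGroups.elemAb_card_eq_pow (PGroups.elemAb_mono hX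
      (sup_le inf_le_right (Subgroup.zpowers_le.2 hxX) : (A ⊓ X) ⊔ Subgroup.zpowers x ≤ X))
    rw [hX9, hk]
    refine Nat.pow_le_pow_right (by norm_num) ?_
    by_contra hlt
    refine hxA ?_
    have := Subgroup.eq_of_le_of_card_ge (le_sup_left : A ⊓ X ≤ (A ⊓ X) ⊔ Subgroup.zpowers x)
      (by rw [hk, h3]; exact (Nat.pow_le_pow_right (by norm_num) (by omega : k ≤ 1)).trans (by norm_num))
    exact (this ▸ Subgroup.mem_sup_right (Subgroup.mem_zpowers x) : x ∈ A ⊓ X).1
  -- `a ↦ x a x⁻¹ a⁻¹` on `A`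
  have hmem : ∀ a ∈ A, x * a * x⁻¹ ∈ A := fun a ha => Subgroup.Normal.conj_mem inferInstance a ha x
  let D : ↥A →* ↥A := MonoidHom.mk'
    (fun a => ⟨x * (a : G) * x⁻¹ * (a : G)⁻¹, A.mul_mem (hmem a a.2) (A.inv_mem a.2)⟩)
    (fun a b => Subtype.ext (by
      show x * ((a : G) * b) * x⁻¹ * ((a : G) * b)⁻¹ =
        x * (a : G) * x⁻¹ * (a : G)⁻¹ * (x * (b : G) * x⁻¹ * (b : G)⁻¹)
      have h1 : Commute ((a : G)⁻¹) (x * (b : G) * x⁻¹ * (b : G)⁻¹) :=
        PGroups.elemAb_comm hA (A.inv_mem a.2) (A.mul_mem (hmem b b.2) (A.inv_mem b.2))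
      rw [mul_assoc (x * (a : G) * x⁻¹) ((a : G)⁻¹), h1.eq]
      group))
  have hker : Nat.card ↥D.ker ≤ 3 := by
    rw [← h3]
    have : D.ker.map A.subtype ≤ A ⊓ X := by
      rintro _ ⟨a, ha, rfl⟩
      have hax : Commute x (a : G) :=
        mul_inv_eq_iff_eq_mul.1 (mul_inv_eq_one.1 (congrArg Subtype.val ha))
      refine ⟨a.2, hcent a a.2 ?_⟩
      have hle' : X ≤ Subgroup.centralizer ({(a : G)} : Set G) := by
        rw [hXgen]
        exact sup_le (fun y hy => Subgroup.mem_centralizer_singleton_iff.2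
            (PGroups.elemAb_comm hA hy.1 a.2))
          (Subgroup.zpowers_le.2 (Subgroup.mem_centralizer_singleton_iff.2 hax.eq))
      exact Subgroup.mem_centralizer_iff.2 fun y hy =>
        Subgroup.mem_centralizer_singleton_iff.1 (hle' hy)
    have h := Subgroup.card_le_of_le this
    rwa [Nat.card_congr (D.ker.equivMapOfInjective _ A.subtype_injective).symm.toEquiv] at h
  have hstep : ∀ H : Subgroup ↥A, Nat.card ↥H ≤ 3 * Nat.card ↥(H.map D) := by
    intro H
    have h1 := (D.comp H.subtype).ker.card_mul_index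
    rw [Subgroup.index_ker, MonoidHom.range_comp, Subgroup.range_subtype] at h1
    rw [← h1]
    refine Nat.mul_le_mul_right _ (le_trans ?_ hker)
    exact Nat.card_le_card_of_injective
      (fun a => (⟨(a : ↥H), a.2⟩ : ↥D.ker)) fun a b h => by
        simp only [Subtype.ext_iff] at h ⊢; exact h
  have hx3 : x ^ 3 = 1 := hX.2 x hxX
  have hD3 : ∀ a : ↥A, D (D (D a)) = 1 := by
    intro a
    refine Subtype.ext ?_
    have hDv : ∀ b : ↥A, (D b : G) = (x * (b : G) * x⁻¹) * (b : G)⁻¹ := fun b => rfl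
    set y0 : ↥A := a with hy0
    set y1 : ↥A := ⟨x * (a : G) * x⁻¹, hmem a a.2⟩ with hy1
    set y2 : ↥A := ⟨x * (y1 : G) * x⁻¹, hmem y1 y1.2⟩ with hy2
    have hy3 : x * (y2 : G) * x⁻¹ = (y0 : G) := by
      show x * (x * (x * (a : G) * x⁻¹) * x⁻¹) * x⁻¹ = (a : G)
      rw [show x * (x * (x * (a : G) * x⁻¹) * x⁻¹) * x⁻¹ = x ^ 3 * (a : G) * (x ^ 3)⁻¹ by
        rw [pow_three]; group, hx3]
      group
    letI : CommGroup ↥A := { (inferInstance : Group ↥A) with mul_comm := hA.1.is_comm.comm }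
    have e0 : D y0 = y1 * y0⁻¹ := Subtype.ext (hDv y0)
    have e1 : D y1 = y2 * y1⁻¹ := Subtype.ext (hDv y1)
    have e2 : D y2 = y0 * y2⁻¹ := Subtype.ext (by rw [hDv, hy3]; rfl)
    have hpow : ∀ b : ↥A, b ^ 3 = 1 := fun b => Subtype.ext (hA.2 b b.2)
    have hfin : D (D (D y0)) = y1 ^ 3 * (y2 ^ 3)⁻¹ := by
      simp only [map_mul, map_inv, e0, e1, e2]
      exact cancel_identity y0 y1 y2
    rw [hfin, hpow, hpow, inv_one, one_mul]
  have h1 := hstep ⊤
  have h2 := hstep ((⊤ : Subgroup ↥A).map D)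
  have h4 := hstep (((⊤ : Subgroup ↥A).map D).map D)
  have h5 : ((((⊤ : Subgroup ↥A).map D).map D).map D) = ⊥ := by
    rw [eq_bot_iff]
    rintro _ ⟨_, ⟨_, ⟨a, -, rfl⟩, rfl⟩, rfl⟩
    exact hD3 a
  rw [h5, Subgroup.card_bot, mul_one] at h4
  rw [Subgroup.card_top] at h1
  have : (3 : ℕ) ^ 4 ≤ 27 := hAc.trans (h1.trans (by omega))
  norm_num at this

end Cfsg.Agent.Lib.PConnected
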